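import Cfsg.Agent.Spor.LyD.D0

set_option autoImplicit false
set_option maxRecDepth 100000000
set_option Elab.async false

namespace Cfsg.Agent.Spor.LyD

theorem ok0 : Net.okb 15 n0 = true := by decide +kernel

theorem ok1 : Net.okb 15 n1 = true := by decide +kernel

theorem ok2 : Net.okb 15 n2 = true := by decide +kernel

theorem ok3 : Net.okb 15 n3 = true := by decide +kernel

theorem ok4 : Net.okb 15 n4 = true := by decide +kernel

theorem ok5 : Net.okb 15 n5 = true := by decide +kernel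

theorem ok6 : Net.okb 15 n6 = true := by decide +kernel

theorem ok7 : Net.okb 15 n7 = true := by decide +kernel

theorem ok8 : Net.okb 15 n8 = true := by decide +kernel

theorem rel0 : T.rel 15 [9, 1, 7, 5] 0 15 = true := by decide +kernel

theorem rel1 : T.rel 15 [11, 2, 7, 6] 0 15 = true := by decide +kernel

theorem rel2 : T.rel 15 [13, 6, 7, 2] 0 15 = true := by decide +kernel

theorem rel3 : T.rel 15 [15, 3, 9, 7, 10] 0 15 = true := by decide +kernel

theorem rel4 : T.rel 15 [17, 2, 2, 1, 3, 5, 7, 1, 7, 5, 8, 7, 6, 5, 2, 8, 7, 8] 0 15 = true := by decide +kernel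

theorem rel5 : T.rel 15 [1, 1, 1, 1, 1, 1, 1, 1] 0 15 = true := by decide +kernel

theorem rel6 : T.rel 15 [2, 2, 2, 2, 2] 0 15 = true := by decide +kernel

theorem rel7 : T.rel 15 [2, 1, 2, 1, 2, 1, 2, 1] 0 15 = true := by decide +kernel

theorem rel8 : T.rel 15 [2, 1, 1, 6, 5, 5] 0 15 = true := by decide +kernel

theorem rel9 : T.rel 15 [2, 1, 6, 5, 2, 1, 6, 5, 2, 1, 6, 5] 0 15 = true := by decide +kernel

theorem rel10 : T.rel 15 [3, 3, 3, 3, 3] 0 15 = true := by decide +kernel

theorem rel11 : T.rel 15 [15, 15, 15, 15, 15] 0 15 = true := by decide +kernel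

theorem rel12 : T.rel 15 [15, 3, 16, 7] 0 15 = true := by decide +kernel

theorem rel13 : T.rel 15 [15, 9, 16, 10] 0 15 = true := by decide +kernel

theorem rel14 : T.rel 15 [15, 11, 16, 12] 0 15 = true := by decide +kernel

theorem rel15 : T.rel 15 [15, 13, 16, 14] 0 15 = true := by decide +kernel

theorem rel16 : T.rel 15 [15, 15, 11, 3, 12, 7] 0 15 = true := by decide +kernel

theorem rel17 : T.rel 15 [16, 16, 13, 3, 14, 7] 0 15 = true := by decide +kernel

theorem rel18 : T.rel 15 [15, 11, 9, 12, 10] 0 15 = true := by decide +kernel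

theorem rel19 : T.rel 15 [13, 9, 14, 10] 0 15 = true := by decide +kernel

theorem rel20 : T.rel 15 [15, 13, 11, 14, 12] 0 15 = true := by decide +kernel

theorem rel21 : T.rel 15 [3, 3, 1, 9, 5] 0 15 = true := by decide +kernel

theorem rel22 : T.rel 15 [11, 11, 7, 14, 1, 11, 5] 0 15 = true := by decide +kernel

theorem rel23 : T.rel 15 [7, 9, 11, 14, 7, 14, 1, 13, 5] 0 15 = true := by decide +kernel

theorem rel24 : T.rel 15 [16, 16, 1, 15, 5] 0 15 = true := by decide +kernel

theorem rel25 : T.rel 15 [10, 12, 13, 3, 13, 2, 9, 6] 0 15 = true := by decide +kernel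

theorem rel26 : T.rel 15 [7, 7, 14, 11, 11, 2, 11, 6] 0 15 = true := by decide +kernel

theorem rel27 : T.rel 15 [16, 2, 15, 6] 0 15 = true := by decide +kernel

theorem rel28 : T.rel 15 [17, 17] 0 15 = true := by decide +kernel

theorem rel29 : T.rel 15 [6, 12, 6, 3, 17, 3, 18] 0 15 = true := by decide +kernel

theorem rel30 : T.rel 15 [6, 6, 5, 10, 3, 13, 1, 17, 11, 18] 0 15 = true := by decide +kernel

theorem rel31 : T.rel 15 [6, 6, 11, 14, 17, 13, 18] 0 15 = true := by decide +kernel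

theorem rel32 : T.rel 15 [7, 11, 7, 13, 17, 15, 18] 0 15 = true := by decide +kernel

theorem rel33 : T.rel 15 [5, 6, 6, 5, 2, 5, 7, 16, 13, 17, 1, 1, 17] 0 15 = true := by decide +kernel

theorem rel34 : T.rel 15 [7, 11, 13, 13, 17, 2, 18] 0 15 = true := by decide +kernel

theorem rel35 : T.rel 15 [5, 5, 7, 16, 13, 17, 1, 6, 1, 2, 2, 1, 17] 0 15 = true := by decide +kernel

theorem rel36 : T.rel 15 [1, 1, 1, 11, 1, 14, 9, 17, 10, 17, 9, 17] 0 15 = true := by decide +kernel

theorem rel37 : T.rel 15 [5, 6, 6, 1, 2, 3, 13, 15, 5, 18, 5, 18, 5, 9, 6, 18, 4] 0 15 = true := by decide +kernel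

theorem rel38 : T.rel 15 [5, 5, 5, 5, 4, 4] 0 15 = true := by decide +kernel

theorem rel39 : T.rel 15 [4, 2, 8, 6] 0 15 = true := by decide +kernel

theorem rel40 : T.rel 15 [5, 5, 5, 4, 1, 8] 0 15 = true := by decide +kernel

theorem rel41 : T.rel 15 [15, 4, 15, 4, 15, 4, 15, 4, 15, 4] 0 15 = true := by decide +kernel

theorem rel42 : T.rel 15 [5, 5, 15, 4, 16, 4, 15, 4] 0 15 = true := by decide +kernel

end Cfsg.Agent.Spor.LyD
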