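import Cfsg.Agent.Spor.Cert
import Cfsg.Agent.Spor.LyD.C0

set_option autoImplicit false
set_option maxRecDepth 100000000
set_option Elab.async false

namespace Cfsg.Agent.Spor.LyD

theorem hT : T.Ok 15 := T.ok_of 15 (show AllP (fun n => Net.okb 15 n = true) [n0, n1, n2, n3, n4, n5, n6, n7, n8] from AllP.cons ok0 (AllP.cons ok1 (AllP.cons ok2 (AllP.cons ok3 (AllP.cons ok4 (AllP.cons ok5 (AllP.cons ok6 (AllP.cons ok7 (AllP.cons ok8 (AllP.nil))))))))))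

noncomputable def fP : ℕ → Equiv.Perm ℕ := T.fP gs

theorem hsq : ∀ j < 0, j < 4 → T.fP gs j * T.fP gs j = 1 :=
  Tab.sq (show AllP (fun z => evA T.τ [z, z] = 1) [] from AllP.nil) 4 rfl

theorem hiv : IvOk (2 * 0) (atm 4 (T.fP gs)) := ivOk_atm hsq

theorem pz1 : PZ T (atm 4 (T.fP gs)) EX 1 := PZ.of_atom (y := 2 * 0) (by decide +kernel) (atm_two_mul _ (by decide))
theorem pz2 : PZ T (atm 4 (T.fP gs)) EX 2 := PZ.of_atom (y := 2 * 1) (by decide +kernel) (atm_two_mul _ (by decide))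
theorem pz3 : PZ T (atm 4 (T.fP gs)) EX 3 := PZ.of_atom (y := 2 * 2) (by decide +kernel) (atm_two_mul _ (by decide))
theorem pz4 : PZ T (atm 4 (T.fP gs)) EX 4 := PZ.of_atom (y := 2 * 3) (by decide +kernel) (atm_two_mul _ (by decide))
theorem pz5 : PZ T (atm 4 (T.fP gs)) EX 5 := PZ.of_inv hiv pz1 (by decide +kernel)
theorem pz6 : PZ T (atm 4 (T.fP gs)) EX 6 := PZ.of_inv hiv pz2 (by decide +kernel)
theorem pz7 : PZ T (atm 4 (T.fP gs)) EX 7 := PZ.of_inv hiv pz3 (by decide +kernel)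
theorem pz8 : PZ T (atm 4 (T.fP gs)) EX 8 := PZ.of_inv hiv pz4 (by decide +kernel)
theorem pz9 : PZ T (atm 4 (T.fP gs)) EX 9 := PZ.of_def hiv (d := [1, 7, 5]) (AllP.cons pz1 (AllP.cons pz7 (AllP.cons pz5 (AllP.nil)))) (hT.one rel0) (by decide +kernel)
theorem pz10 : PZ T (atm 4 (T.fP gs)) EX 10 := PZ.of_inv hiv pz9 (by decide +kernel)
theorem pz11 : PZ T (atm 4 (T.fP gs)) EX 11 := PZ.of_def hiv (d := [2, 7, 6]) (AllP.cons pz2 (AllP.cons pz7 (AllP.cons pz6 (AllP.nil)))) (hT.one rel1) (by decide +kernel)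
theorem pz12 : PZ T (atm 4 (T.fP gs)) EX 12 := PZ.of_inv hiv pz11 (by decide +kernel)
theorem pz13 : PZ T (atm 4 (T.fP gs)) EX 13 := PZ.of_def hiv (d := [6, 7, 2]) (AllP.cons pz6 (AllP.cons pz7 (AllP.cons pz2 (AllP.nil)))) (hT.one rel2) (by decide +kernel)
theorem pz14 : PZ T (atm 4 (T.fP gs)) EX 14 := PZ.of_inv hiv pz13 (by decide +kernel)
theorem pz15 : PZ T (atm 4 (T.fP gs)) EX 15 := PZ.of_def hiv (d := [3, 9, 7, 10]) (AllP.cons pz3 (AllP.cons pz9 (AllP.cons pz7 (AllP.cons pz10 (AllP.nil))))) (hT.one rel3) (by decide +kernel)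
theorem pz16 : PZ T (atm 4 (T.fP gs)) EX 16 := PZ.of_inv hiv pz15 (by decide +kernel)
theorem pz17 : PZ T (atm 4 (T.fP gs)) EX 17 := PZ.of_def hiv (d := [2, 2, 1, 3, 5, 7, 1, 7, 5, 8, 7, 6, 5, 2, 8, 7, 8]) (AllP.cons pz2 (AllP.cons pz2 (AllP.cons pz1 (AllP.cons pz3 (AllP.cons pz5 (AllP.cons pz7 (AllP.cons pz1 (AllP.cons pz7 (AllP.cons pz5 (AllP.cons pz8 (AllP.cons pz7 (AllP.cons pz6 (AllP.cons pz5 (AllP.cons pz2 (AllP.cons pz8 (AllP.cons pz7 (AllP.cons pz8 (AllP.nil)))))))))))))))))) (hT.one rel4) (by decide +kernel)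
theorem pz18 : PZ T (atm 4 (T.fP gs)) EX 18 := PZ.of_inv hiv pz17 (by decide +kernel)
theorem hPZ : AllP (PZ T (atm 4 (T.fP gs)) EX) L :=
  show AllP (PZ T (atm 4 (T.fP gs)) EX) [1, 2, 3, 4, 5, 6, 7, 8, 9, 10, 11, 12, 13, 14, 15, 16, 17, 18] from AllP.cons pz1 (AllP.cons pz2 (AllP.cons pz3 (AllP.cons pz4 (AllP.cons pz5 (AllP.cons pz6 (AllP.cons pz7 (AllP.cons pz8 (AllP.cons pz9 (AllP.cons pz10 (AllP.cons pz11 (AllP.cons pz12 (AllP.cons pz13 (AllP.cons pz14 (AllP.cons pz15 (AllP.cons pz16 (AllP.cons pz17 (AllP.cons pz18 (AllP.nil))))))))))))))))))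

theorem hrel : ∀ l ∈ RL, ev (atm 4 (T.fP gs)) l = 1 :=
  relAll_sound hiv (W := [[1, 1, 1, 1, 1, 1, 1, 1], [2, 2, 2, 2, 2], [2, 1, 2, 1, 2, 1, 2, 1], [2, 1, 1, 6, 5, 5], [2, 1, 6, 5, 2, 1, 6, 5, 2, 1, 6, 5], [3, 3, 3, 3, 3], [15, 15, 15, 15, 15], [15, 3, 16, 7], [15, 9, 16, 10], [15, 11, 16, 12], [15, 13, 16, 14], [15, 15, 11, 3, 12, 7], [16, 16, 13, 3, 14, 7], [15, 11, 9, 12, 10], [13, 9, 14, 10], [15, 13, 11, 14, 12], [3, 3, 1, 9, 5], [11, 11, 7, 14, 1, 11, 5], [7, 9, 11, 14, 7, 14, 1, 13, 5], [16, 16, 1, 15, 5], [10, 12, 13, 3, 13, 2, 9, 6], [7, 7, 14, 11, 11, 2, 11, 6], [16, 2, 15, 6], [17, 17], [6, 12, 6, 3, 17, 3, 18], [6, 6, 5, 10, 3, 13, 1, 17, 11, 18], [6, 6, 11, 14, 17, 13, 18], [7, 11, 7, 13, 17, 15, 18], [5, 6, 6, 5, 2, 5, 7, 16, 13, 17, 1, 1, 17], [7, 11, 13, 13, 17, 2, 18], [5, 5, 7, 16, 13, 17, 1, 6,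 1, 2, 2, 1, 17], [1, 1, 1, 11, 1, 14, 9, 17, 10, 17, 9, 17], [5, 6, 6, 1, 2, 3, 13, 15, 5, 18, 5, 18, 5, 9, 6, 18, 4], [5, 5, 5, 5, 4, 4], [4, 2, 8, 6], [5, 5, 5, 4, 1, 8], [15, 4, 15, 4, 15, 4, 15, 4, 15, 4], [5, 5, 15, 4, 16, 4, 15, 4]]) (rules := [⟨[1, 1, 1, 1, 1, 1, 1, 1], [], 0, true⟩, ⟨[2, 2, 2, 2, 2], [], 1, true⟩, ⟨[2, 1, 2, 1, 2, 1, 2, 1], [], 2, true⟩, ⟨[2, 1, 1, 6, 5, 5], [], 3, true⟩, ⟨[2, 1, 6, 5, 2, 1, 6, 5, 2, 1, 6, 5], [], 4, true⟩, ⟨[3, 3, 3, 3, 3], [], 5, true⟩, ⟨[15, 15, 15, 15, 15], [], 6, true⟩, ⟨[15, 3, 16, 7], [], 7, true⟩, ⟨[15, 9, 16, 10], [], 8, true⟩, ⟨[15, 11, 16, 12], [], 9, true⟩, ⟨[15, 13, 16, 14], [], 10, true⟩, ⟨[15, 15, 11, 3, 12, 7], [], 11, true⟩, ⟨[16, 16, 13, 3, 14, 7], [], 12, true⟩, ⟨[15, 11, 9, 12, 10], [], 13, true⟩, ⟨[13, 9, 14, 10], [], 14, true⟩, ⟨[15, 13, 11, 14, 12], [],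 15, true⟩, ⟨[3, 3, 1, 9, 5], [], 16, true⟩, ⟨[11, 11, 7, 14, 1, 11, 5], [], 17, true⟩, ⟨[7, 9, 11, 14, 7, 14, 1, 13, 5], [], 18, true⟩, ⟨[16, 16, 1, 15, 5], [], 19, true⟩, ⟨[10, 12, 13, 3, 13, 2, 9, 6], [], 20, true⟩, ⟨[7, 7, 14, 11, 11, 2, 11, 6], [], 21, true⟩, ⟨[16, 2, 15, 6], [], 22, true⟩, ⟨[17, 17], [], 23, true⟩, ⟨[6, 12, 6, 3, 17, 3, 18], [], 24, true⟩, ⟨[6, 6, 5, 10, 3, 13, 1, 17, 11, 18], [], 25, true⟩, ⟨[6, 6, 11, 14, 17, 13, 18], [], 26, true⟩, ⟨[7, 11, 7, 13, 17, 15, 18], [], 27, true⟩, ⟨[5, 6, 6, 5, 2, 5, 7, 16, 13, 17, 1, 1, 17], [], 28, true⟩, ⟨[7, 11, 13, 13, 17, 2, 18], [], 29, true⟩, ⟨[5, 5, 7, 16, 13, 17, 1, 6, 1, 2, 2, 1, 17], [], 30, true⟩, ⟨[1, 1, 1, 11, 1, 14, 9, 17, 10, 17, 9, 17], [], 31, true⟩, ⟨[5, 6, 6, 1, 2, 3, 13, 15, 5, 18, 5, 18, 5, 9, 6, 18, 4], [], 32, true⟩, ⟨[5, 5, 5, 5, 4, 4], [],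 33, true⟩, ⟨[4, 2, 8, 6], [], 34, true⟩, ⟨[5, 5, 5, 4, 1, 8], [], 35, true⟩, ⟨[15, 4, 15, 4, 15, 4, 15, 4, 15, 4], [], 36, true⟩, ⟨[5, 5, 15, 4, 16, 4, 15, 4], [], 37, true⟩]) hPZ (AllP.cons (hT.one rel5) (AllP.cons (hT.one rel6) (AllP.cons (hT.one rel7) (AllP.cons (hT.one rel8) (AllP.cons (hT.one rel9) (AllP.cons (hT.one rel10) (AllP.cons (hT.one rel11) (AllP.cons (hT.one rel12) (AllP.cons (hT.one rel13) (AllP.cons (hT.one rel14) (AllP.cons (hT.one rel15) (AllP.cons (hT.one rel16) (AllP.cons (hT.one rel17) (AllP.cons (hT.one rel18) (AllP.cons (hT.one rel19) (AllP.cons (hT.one rel20) (AllP.cons (hT.one rel21) (AllP.cons (hT.one rel22) (AllP.cons (hT.one rel23) (AllP.cons (hT.one rel24) (AllP.cons (hT.one rel25) (AllP.cons (hT.one rel26) (AllP.cons (hT.one rel27) (AllP.cons (hT.one rel28) (AllP.cons (hT.one rel29) (AllP.cons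 (hT.one rel30) (AllP.cons (hT.one rel31) (AllP.cons (hT.one rel32) (AllP.cons (hT.one rel33) (AllP.cons (hT.one rel34) (AllP.cons (hT.one rel35) (AllP.cons (hT.one rel36) (AllP.cons (hT.one rel37) (AllP.cons (hT.one rel38) (AllP.cons (hT.one rel39) (AllP.cons (hT.one rel40) (AllP.cons (hT.one rel41) (AllP.cons (hT.one rel42) (AllP.nil))))))))))))))))))))))))))))))))))))))) (by decide +kernel)

theorem pres : Pres 4 0 RL fP := ⟨hsq, hrel⟩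

end Cfsg.Agent.Spor.LyD
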